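import Cfsg.Agent.H915.SLCases
import Cfsg.Agent.H815.Rl.PslNine
import Cfsg.Agent.H55.Rl.Block
import Cfsg.Agent.H74.PslF
import Cfsg.Agent.H951.Rl.ExtGL
import Cfsg.Agent.H304.GeoL
import Cfsg.Agent.H788.Rl.Core
import Cfsg.Agent.S5809

/-!
# S3691, row `PSL_n(q)`: the case `(q, N) = (5, 7)` (PSL-16e, helper331)

`19531` divides one factor, which is then contained in `ΓL_1(5^7)` or residual: order at most `136717`. So the index of the other
factor is at most `273434`, and `71` divides its order: it fixes a point or a hyperplane, and the block contains `SL_6(5)`.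
-/

set_option autoImplicit false

open Cfsg Cfsg.Geo Matrix Module Cfsg.Agent.H454.Reg Cfsg.Agent.H851.Rl
open scoped MatrixGroups

namespace Cfsg.Agent.H331.Rl

open Cfsg.Agent.H728.DghpNum Cfsg.Agent.H304.Ppd Cfsg.Agent.H304.PslT Cfsg.Agent.H251.GeoCard

universe u

theorem ppd_seven : Ppd 5 7 19531 := by
  have hp : Nat.Prime 19531 := by norm_num
  have : Fact (Nat.Prime 19531) := ⟨hp⟩
  refine ⟨hp, ?_, by norm_num⟩
  have : Fact (Nat.Prime 7) := ⟨by norm_num⟩
  refine orderOf_eq_prime ?_ ?_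
  · decide
  · decide

theorem ppd_five : Ppd 5 5 71 := by
  have hp : Nat.Prime 71 := by norm_num
  have : Fact (Nat.Prime 71) := ⟨hp⟩
  refine ⟨hp, ?_, by norm_num⟩
  have : Fact (Nat.Prime 5) := ⟨by norm_num⟩
  refine orderOf_eq_prime ?_ ?_
  · decide
  · decide

section stab

variable {F : Type} [Field F] [Fintype F] {n : ℕ}

/-- the order of the stabiliser of a subspace -/
theorem card_stab_le (W : Submodule F (Fin n → F)) :
    Nat.card (subspaceStabilizer W) ≤
      Fintype.card F ^ (finrank F W * finrank F W + (n - finrank F W) * n) := by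
  classical
  obtain ⟨W', hW⟩ := W.exists_isCompl
  have hst : ∀ x : GL (Fin n) F, x ∈ subspaceStabilizer W → ∀ w ∈ W, (Matrix.toLin' (x : Matrix (Fin n) (Fin n) F)) w ∈ W := by
    intro x hx w hw
    rw [Matrix.toLin'_apply]
    exact mem_of_subspaceStabilizer hx w hw
  let f : subspaceStabilizer W → (W →ₗ[F] W) × (W' →ₗ[F] (Fin n → F)) := fun x =>
    ((Matrix.toLin' (x.1 : Matrix (Fin n) (Fin n) F)).restrict (hst x.1 x.2),
      (Matrix.toLin' (x.1 : Matrix (Fin n) (Fin n) F)).comp W'.subtype)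
  have hf : Function.Injective f := by
    intro x y hxy
    have h1 := congrArg Prod.fst hxy
    have h2 := congrArg Prod.snd hxy
    apply Subtype.ext
    apply Units.ext
    apply Matrix.toLin'.injective
    have hle : (⊤ : Submodule F (Fin n → F)) ≤ LinearMap.eqLocus (Matrix.toLin' (x.1 : Matrix (Fin n) (Fin n) F))
        (Matrix.toLin' (y.1 : Matrix (Fin n) (Fin n) F)) := by
      rw [← hW.sup_eq_top]
      refine sup_le ?_ ?_
      · intro w hw
        have h3 := LinearMap.congr_fun h1 ⟨w, hw⟩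
        exact congrArg Subtype.val h3
      · intro w hw
        exact LinearMap.congr_fun h2 ⟨w, hw⟩
    exact LinearMap.ext fun w => hle (Submodule.mem_top (x := w))
  have hfr : finrank F W' = n - finrank F W := by
    have := Submodule.finrank_add_eq_of_isCompl hW
    rw [Module.finrank_fintype_fun_eq_card, Fintype.card_fin] at this
    omega
  have hfin1 : Finite (W →ₗ[F] W) := Module.finite_of_finite F
  have hfin2 : Finite (W' →ₗ[F] (Fin n → F)) := Module.finite_of_finite F
  refine (Nat.card_le_card_of_injective f hf).trans ?_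
  rw [Nat.card_prod, Module.natCard_eq_pow_finrank (K := F) (V := W →ₗ[F] W),
    Module.natCard_eq_pow_finrank (K := F) (V := W' →ₗ[F] (Fin n → F)),
    Module.finrank_linearMap, Module.finrank_linearMap, hfr, Module.finrank_fintype_fun_eq_card, Fintype.card_fin,
    Nat.card_eq_fintype_card, ← pow_add]

end stab

section cls

variable {F : Type} [Field F] [Fintype F]

theorem card_mulAut_u33 {K : Type*} [Field K] [Fintype K] (hK : Fintype.card K = 9) :
    Nat.card (MulAut (Cfsg.PSU 3 K 3)) ≤ 12096 := by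
  have : Fact (Nat.Prime 3) := ⟨Nat.prime_three⟩
  have hK' : Fintype.card K = 3 ^ 2 := by rw [hK]; norm_num
  rw [S0815.result (F := K) 3 1 le_rfl (q := 3) (by norm_num) hK' 3 (by norm_num) (by norm_num)]
  have h := S0280.result hK' 3 (by norm_num)
  generalize Nat.card (Cfsg.PSU 3 K 3) = N at h ⊢
  norm_num [Finset.prod_range_succ] at h
  norm_num
  omega

/-- the maximal subgroups of `SL_7(5)` of order divisible by `71` or `19531` -/
theorem classes (hq : Fintype.card F = 5) {H : Subgroup (GL (Fin 7) F)}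
    (hH : IsMaximalIn (specialLinear (Fin 7) F) H) {e v : ℕ} (hP : Ppd 5 e v) (he : Odd e) (he5 : 5 ≤ e) (he7 : e ≤ 7)
    (hv : 8 < v) (hd : v ∣ Nat.card H) :
    (∃ W : Submodule F (Fin 7 → F), 0 < finrank F W ∧ finrank F W < 7 ∧
      (e ≤ finrank F W ∨ finrank F W + e ≤ 7) ∧ H ≤ subspaceStabilizer W) ∨ Nat.card H ≤ 136717 := by
  have hP' : Ppd (Fintype.card F) e v := by rw [hq]; exact hP
  have hF : ¬ v ∣ Nat.card F := by rw [Nat.card_eq_fintype_card]; exact hP'.ndvd
  have hfact := Fact.mk hP.prime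
  obtain ⟨x, hx⟩ := exists_prime_orderOf_dvd_card' (G := H) v hd
  have hxo : orderOf (x : GL (Fin 7) F) = v := by rw [Subgroup.orderOf_coe, hx]
  have hv5 : ∀ i : ℕ, 1 ≤ i → i < e → ¬ v ∣ 5 ^ i - 1 := by
    intro i h1 h2 h3
    have := Nat.le_of_dvd h1 ((hP.dvd_iff i).1 h3)
    omega
  rcases H915.sl_cases (by norm_num) hH with ⟨W, h0, h1, h⟩ | ⟨t, m, D, htm, hD, -, -, h⟩ |
    ⟨r, K, hr, hrn, hK, h⟩ | ⟨n₁, n₂, e', P, h1, h2, h3, -, h⟩ | ⟨F₀, r, P, hr, hF', h⟩ |
    ⟨r, k, p, e', R, hR, -, hro, -, hk, hnk, -, -, hZ, hc, h⟩ | ⟨k, R, hR, hnk, -, -, hZ, hc, h⟩ |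
    ⟨m, t, e', P, hm, ht, hmt, h⟩ | ⟨f, hf, hev, h4, h⟩ | ⟨σ, f, hf, h⟩ | ⟨-, Q, hQ, h⟩ | h
  · left
    have h2 : H ≤ subspaceStabilizer W := by rw [h]; exact inf_le_left
    have h3 : 0 < finrank F W := Nat.pos_of_ne_zero fun h => h0 (Submodule.finrank_eq_zero.mp h)
    have h4 : finrank F W < 7 := by
      have := Submodule.finrank_lt h1
      rwa [Module.finrank_fintype_fun_eq_card, Fintype.card_fin] at this
    have h5 := le_finrank_of_mem_stabilizer hP' hxo (mem_of_subspaceStabilizer (h2 x.2))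
    rw [Fintype.card_fin] at h5
    exact ⟨W, h3, h4, h5, h2⟩
  · exfalso
    have hHD : v ∣ Nat.card (decompositionStabilizer D) :=
      hd.trans (Subgroup.card_dvd_of_le (by rw [h]; exact inf_le_left))
    have ht := hD.two_le
    have hm := hD.pos
    rcases decomp hD hP.prime hF hHD with h5 | ⟨i, h5, h6, h7⟩
    · have : t ≤ 7 := by rw [← htm]; exact Nat.le_mul_of_pos_right t hm
      omega
    · rw [Nat.card_eq_fintype_card, hq] at h7
      have h8 : 2 * m ≤ 7 := by rw [← htm]; exact Nat.mul_le_mul_right m ht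
      exact hv5 i h5 (by omega) h7
  · right
    have hr7 : r = 7 := (Nat.prime_dvd_prime_iff_eq hr (by norm_num)).1 hrn
    subst hr7
    have h1 := H951.Rl.card_ext_sl_prod hK
    rw [← h, Fintype.card_fin, hq] at h1
    norm_num at h1
    omega
  · exfalso
    have h4 : n₁ ∣ 7 := ⟨n₂, h3.symm⟩
    have h5 := (Nat.dvd_prime (by norm_num : Nat.Prime 7)).1 h4
    rcases h5 with h5 | h5
    · omega
    · rw [h5] at h3
      omega
  · exfalso
    rw [hq] at hF'
    have h2 : 1 < Nat.card F₀ := Finite.one_lt_card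
    have h3 : Nat.card F₀ ∣ 5 := by rw [hF']; exact dvd_pow_self _ hr.ne_zero
    have h4 := (Nat.dvd_prime (by norm_num : Nat.Prime 5)).1 h3
    rcases h4 with h4 | h4
    · omega
    · rw [h4] at hF'
      have h5 : 5 ^ 2 ≤ 5 ^ r := Nat.pow_le_pow_right (by norm_num) hr.two_le
      omega
  · exfalso
    have hHR : v ∣ Nat.card (subgroupNormalizer R) :=
      hd.trans (Subgroup.card_dvd_of_le (by rw [h]; exact inf_le_left))
    have : Nonempty (Fin 7) := ⟨0⟩
    rcases symplecticType hR.symplecticType hR.absIrred (Or.inl ⟨hro, hZ, hc⟩) hk hP.prime hHR with h1 | h1 | h1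
    · have : r ≤ r ^ k := Nat.le_self_pow (by omega) r
      omega
    · rw [Nat.card_eq_fintype_card, hq] at h1
      exact hv5 1 le_rfl (by omega) (by rwa [pow_one])
    · omega
  · exfalso
    have h1 : Odd 7 := by decide
    rw [hnk] at h1
    rcases k with _ | k
    · norm_num at hnk
    · rw [pow_succ] at h1
      exact absurd h1 (by rw [Nat.not_odd_iff_even]; exact even_two.mul_left _)
  · exfalso
    have h1 : m ∣ 7 := by rw [← hmt]; exact dvd_pow_self _ (by omega)
    have h2 := (Nat.dvd_prime (by norm_num : Nat.Prime 7)).1 h1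
    rcases h2 with h2 | h2
    · omega
    · rw [h2] at hmt
      have h5 : 7 ^ 2 ≤ 7 ^ t := Nat.pow_le_pow_right (by norm_num) ht
      omega
  · exact absurd hev (by decide)
  · exfalso
    obtain ⟨p, k, hp, -, h1, -⟩ := exists_frobenius hf.ne_refl hf.involutive
    rw [hq] at h1
    have h2 : p ^ k < 3 := by
      by_contra hcon
      push Not at hcon
      have := Nat.pow_le_pow_left hcon 2
      omega
    interval_cases (p ^ k) <;> omega
  · exfalso
    have : Nonempty (Fin 7) := ⟨0⟩
    have h0 : H ≤ quadSimilarityGroup Q := by rw [h]; exact inf_le_left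
    have h1 : (x : GL (Fin 7) F) ∈ quadSimilarityGroup Q := h0 x.2
    have h2 := even_of_quadratic hP' (by omega) (by rw [Fintype.card_fin]; omega) hxo hQ h1
    exact (Nat.not_even_iff_odd.2 he) h2
  · right
    have : Nonempty (Fin 7) := ⟨0⟩
    obtain ⟨P, p, hP, -, -, -, K, _, _, hK, ⟨e⟩⟩ := S5809.result H hH h
    have h1 := H788.Rl.card_le_of_equiv hP hH.1.le e (card_mulAut_u33 hK)
    rw [Fintype.card_fin] at h1
    omega

end cls

section fac

variable {G : Type u} [Group G] {T : Subgroup G} {F : Type} [Field F] [Fintype F]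

omit [Fintype F] in
theorem pg_le {n : ℕ} (e : T ≃* Matrix.ProjectiveSpecialLinearGroup (Fin n) F) (X : Subgroup G) :
    pg e X ≤ specialLinear (Fin n) F := by
  rw [← range_toGL]
  exact Subgroup.map_le_range _ _

theorem pg_lt {n : ℕ} (e : T ≃* Matrix.ProjectiveSpecialLinearGroup (Fin n) F) {X : Subgroup G} [Finite G]
    (hX : ¬ T ≤ X) : pg e X < specialLinear (Fin n) F := by
  refine lt_of_le_of_ne (pg_le e X) fun h => hX ?_
  have h1 := H815.Rl.card_pg e X
  rw [h, H815.Rl.card_sl, ← Nat.card_congr e.toEquiv] at h1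
  have h2 : Nat.card T = Nat.card (X.subgroupOf T) := Nat.eq_of_mul_eq_mul_right Nat.card_pos h1
  have h3 : X.subgroupOf T = ⊤ := Subgroup.eq_top_of_card_eq _ h2.symm
  rwa [Subgroup.subgroupOf_eq_top] at h3

theorem card_spl {n : ℕ} (hn : 1 ≤ n) : (Fintype.card F - 1) * Nat.card (specialLinear (Fin n) F) =
    ∏ i : Fin n, (Fintype.card F ^ n - Fintype.card F ^ (i : ℕ)) := by
  have h1 : Nat.card (specialLinear (Fin n) F) = Nat.card (Matrix.SpecialLinearGroup (Fin n) F) := by
    rw [← range_toGL]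
    exact (Nat.card_congr (MonoidHom.ofInjective toGL_injective).toEquiv).symm
  rw [h1, S0242.result rfl n hn]

theorem card_seven (hq : Fintype.card F = 5) :
    Nat.card (specialLinear (Fin 7) F) = 3376566710423156250000000000000000 := by
  have h := card_spl (F := F) (n := 7) (by norm_num)
  rw [hq, Fin.prod_univ_eq_prod_range (fun i => 5 ^ 7 - 5 ^ i) 7] at h
  norm_num [Finset.prod_range_succ] at h
  omega

theorem pt_of_fix (hq : Fintype.card F = 5) {R : Subgroup (GL (Fin 7) F)} (hR : R ≤ specialLinear (Fin 7) F)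
    (hc : Nat.card (specialLinear (Fin 7) F) ≤ 273434 * Nat.card R) {v : Fin 7 → F} (hv : v ≠ 0)
    (hfix : ∀ x ∈ R, ∃ c : F, (x : Matrix (Fin 7) (Fin 7) F) *ᵥ v = c • v) : Pt R v := by
  obtain ⟨φ, hk, hφ⟩ := H55.Rl.block (m := 6) hv hR hfix
  apply hφ
  by_contra hcon
  set M : Subgroup (Matrix.SpecialLinearGroup (Fin 6) F) :=
    φ.range.comap (Matrix.SpecialLinearGroup.toGL (n := Fin 6) (R := F)) with hMdef
  have hM : M ≠ ⊤ := by
    intro h
    apply hcon
    rw [← range_toGL]
    rintro _ ⟨s, rfl⟩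
    have h1 : s ∈ M := by rw [h]; trivial
    exact h1
  have h1 := H74.Psl.min_index hq (n := 6) (by norm_num) (by norm_num) M hM
  norm_num at h1
  have h2 : M.index ≤ φ.range.index := by
    rw [hMdef, Subgroup.index_comap]
    rw [← Subgroup.relIndex_top_right φ.range]
    exact Subgroup.relIndex_le_of_le_right le_top (by
      rw [Subgroup.relIndex_top_right]; exact Subgroup.index_ne_zero_of_finite)
  have h3 : Nat.card φ.range * φ.range.index = Nat.card (GL (Fin 6) F) := Subgroup.card_mul_index _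
  have h4 : Nat.card φ.ker * Nat.card φ.range = Nat.card R := by
    rw [← Subgroup.index_ker]
    exact Subgroup.card_mul_index _
  have h5 : Nat.card φ.ker ≤ 15625 := by
    refine (Nat.le_of_dvd ?_ hk).trans ?_
    · rw [hq]; norm_num
    · rw [hq]; norm_num
  have h6 : Nat.card (GL (Fin 6) F) = 11064475422000000000000000 := by
    rw [Matrix.card_GL_field, hq, Fin.prod_univ_eq_prod_range (fun i => 5 ^ 6 - 5 ^ i) 6]
    norm_num [Finset.prod_range_succ]
  rw [card_seven hq, ← h4] at hc
  have h7 : Nat.card φ.range * 3906 ≤ 11064475422000000000000000 := by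
    rw [← h6, ← h3]
    exact Nat.mul_le_mul_left _ (h1.trans h2)
  have h8 : Nat.card φ.ker * Nat.card φ.range ≤ 15625 * Nat.card φ.range := Nat.mul_le_mul_right _ h5
  omega

theorem red_aux [Finite G] {X Y : Subgroup G} (h : Fac T X Y) (e : T ≃* Matrix.ProjectiveSpecialLinearGroup (Fin 7) F)
    (hq : Fintype.card F = 5) (hd : 19531 ∣ Nat.card (pg e X)) :
    ∃ (e' : T ≃* Matrix.ProjectiveSpecialLinearGroup (Fin 7) F) (v : Fin 7 → F), Pt (pg e' Y) v := by
  have hX : Nat.card (pg e X) ≤ 136717 := by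
    obtain ⟨H, hH, hXH⟩ := H905.exists_isMaximalIn_of_lt (pg_lt e h.not_le_left)
    rcases classes hq hH ppd_seven (by decide) (by norm_num) le_rfl (by norm_num)
      (hd.trans (Subgroup.card_dvd_of_le hXH)) with ⟨W, h1, h2, h3, -⟩ | h1
    · omega
    · exact (Nat.le_of_dvd Nat.card_pos (Subgroup.card_dvd_of_le hXH)).trans h1
  have hF1 : Fintype.card F = 5 ^ 1 := by rw [hq]; norm_num
  have hcard := H815.Rl.card_le_pg h (by norm_num) e (p := 5) (f := 1) (by norm_num) hF1
  have hY : Nat.card (specialLinear (Fin 7) F) ≤ 273434 * Nat.card (pg e Y) :=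
    hcard.trans (Nat.mul_le_mul_right _ (by omega))
  have h71 : 71 ∣ Nat.card (pg e Y) := by
    have h1 := H815.Rl.side h (by norm_num) e (p := 5) (f := 1) (k := 5) (r := 71) (by norm_num) hF1 (by norm_num)
      (by rw [hq]; exact ppd_five.ord) (by norm_num) (by norm_num) (by norm_num)
    have h2 : 71 ∣ 71 ^ (Fintype.card F ^ 5 - 1).factorization 71 := by
      refine dvd_pow_self _ (Nat.Prime.factorization_pos_of_dvd (by norm_num) ?_ ?_).ne'
      · rw [hq]; norm_num
      · rw [hq]; norm_num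
    rcases h1 with ⟨h1, -⟩ | ⟨h1, -⟩
    · exfalso
      have h3 : 71 * 19531 ∣ Nat.card (pg e X) :=
        Nat.Coprime.mul_dvd_of_dvd_of_dvd (by norm_num) (h2.trans h1) hd
      have := Nat.le_of_dvd Nat.card_pos h3
      omega
    · exact h2.trans h1
  obtain ⟨H, hH, hYH⟩ := H905.exists_isMaximalIn_of_lt (pg_lt e h.not_le_right)
  have hcY : Nat.card (pg e Y) ≤ Nat.card H := Nat.le_of_dvd Nat.card_pos (Subgroup.card_dvd_of_le hYH)
  have h7 := card_seven hq
  rcases classes hq hH ppd_five (by decide) (by norm_num) (by norm_num) (by norm_num)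
      (h71.trans (Subgroup.card_dvd_of_le hYH)) with ⟨W, h1, h2, h3, h4⟩ | h1
  · have hHW : Nat.card H ≤ Nat.card (subspaceStabilizer W) :=
      Nat.le_of_dvd Nat.card_pos (Subgroup.card_dvd_of_le h4)
    have hst := card_stab_le W
    rw [hq] at hst
    have hW : finrank F W = 1 ∨ finrank F W = 6 := by
      by_contra hcon
      have h5 : finrank F W = 2 ∨ finrank F W = 5 := by omega
      have h6 : finrank F W * finrank F W + (7 - finrank F W) * 7 = 39 := by
        rcases h5 with h5 | h5 <;> rw [h5]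
      rw [h6] at hst
      norm_num at hst
      omega
    rcases hW with hW | hW
    · obtain ⟨v, hv0, hv⟩ := finrank_eq_one_iff'.1 hW
      refine ⟨e, v, pt_of_fix hq (pg_le e Y) hY (fun h0 => hv0 (Subtype.ext h0)) fun x hx => ?_⟩
      have h8 := mem_of_subspaceStabilizer (h4 (hYH hx)) v v.2
      obtain ⟨c, hc⟩ := hv ⟨_, h8⟩
      exact ⟨c, (congrArg Subtype.val hc).symm⟩
    · obtain ⟨e', he'⟩ := H815.Rl.twist (T := T) (F := F) (n := 7) (by norm_num) e
      obtain ⟨v, hv0, hv⟩ := H815.Rl.dual_fix (n := 7) (by omega) (hYH.trans h4)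
      refine ⟨e', v, pt_of_fix hq (pg_le e' Y) ?_ hv0 fun x hx => hv x (by rw [← he']; exact hx)⟩
      rw [H815.Rl.card_pg, ← H815.Rl.card_pg e]
      exact hY
  · exfalso
    omega

/-- **PSL-16e**: `(q, N) = (5, 7)` -/
theorem red_5_7 [Finite G] {X Y : Subgroup G} (h : Fac T X Y) (e : T ≃* Matrix.ProjectiveSpecialLinearGroup (Fin 7) F)
    (hq : Fintype.card F = 5) :
    ∃ (e' : T ≃* Matrix.ProjectiveSpecialLinearGroup (Fin 7) F) (v : Fin 7 → F), Pt (pg e' X) v ∨ Pt (pg e' Y) v := by
  have hF1 : Fintype.card F = 5 ^ 1 := by rw [hq]; norm_num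
  have h1 := H815.Rl.side h (by norm_num) e (p := 5) (f := 1) (k := 7) (r := 19531) (by norm_num) hF1 (by norm_num)
    (by rw [hq]; exact ppd_seven.ord) (by norm_num) le_rfl (by norm_num)
  have h2 : 19531 ∣ 19531 ^ (Fintype.card F ^ 7 - 1).factorization 19531 := by
    refine dvd_pow_self _ (Nat.Prime.factorization_pos_of_dvd (by norm_num) ?_ ?_).ne'
    · rw [hq]; norm_num
    · rw [hq]; norm_num
  rcases h1 with ⟨h1, -⟩ | ⟨h1, -⟩
  · obtain ⟨e', v, hv⟩ := red_aux h e hq (h2.trans h1)
    exact ⟨e', v, Or.inr hv⟩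
  · obtain ⟨e', v, hv⟩ := red_aux h.symm e hq (h2.trans h1)
    exact ⟨e', v, Or.inl hv⟩

end fac

end Cfsg.Agent.H331.Rl
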